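import Groth.Prelude.Def_Omega3
import Groth.Agent.S5022
import Groth.Agent.Lib.CurveMult.TwistHom
import Groth.Agent.Lib.CodimExt27.Basic
import Groth.Agent.Lib.AlgSp.FieldFibreDim
import Groth.Agent.Lib.Euler.InvHom
import Groth.Agent.Lib.OX.Support
import Groth.Agent.Lib.C1.Pullback
import Groth.Agent.Lib.DegDet.Stalk

/-! The differential of a map of smooth curves is zero or generically bijective. -/

set_option autoImplicit false
set_option backward.isDefEq.respectTransparency false
universe u

noncomputable section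

open CategoryTheory CategoryTheory.Limits AlgebraicGeometry TopologicalSpace Opposite

namespace GrothLib.DiffDich9

/-- The differentials of a smooth integral scheme of dimension `n` are locally free of rank `n`. -/
theorem isFinLocFreeOfRank_omega {k : Type u} [Field k] {X : Scheme.{u}} (p : X ⟶ Spec (CommRingCat.of k))
    [IsIntegral X] [Smooth p] (n : ℕ) (hd : topologicalKrullDim X = n)
    (Ω : X.Modules) (d : OmegaSh.Der p Ω) (hu : OmegaSh.IsUniversal d) :
    FlatMod.IsFinLocFreeOfRank n Ω := fun x => by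
  haveI : LocallyOfFinitePresentation p := inferInstance
  obtain ⟨U, m, hx, e, hm⟩ := ((Groth.Agent.S5022.result p Ω d hu x).1 (p.smoothLocus_eq_top.ge trivial)).2
  haveI : Subsingleton ↥(Spec (CommRingCat.of k)) := inferInstanceAs (Subsingleton (PrimeSpectrum k))
  rw [GrothLib.AlgSp.fibreDimAt_eq_localDim_of_subsingleton, GrothLib.CodimExt27.localDim_eq_of_pure p (n := n)
    (fun Z hZ => by
      rw [irreducibleComponents_eq_singleton, Set.mem_singleton_iff] at hZ
      subst hZ
      rw [← hd]
      exact IsHomeomorph.topologicalKrullDim_eq _ (Homeomorph.Set.univ X).isHomeomorph) x] at hm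
  have : n = m := by exact_mod_cast hm
  subst this
  exact ⟨U, hx, e⟩

/-- A nonzero map of invertible modules is invertible on a nonempty open. -/
theorem exists_open_isZero_cokernel {X : Scheme.{u}} [IsIntegral X] [IsLocallyNoetherian X] {N L : X.Modules}
    (hN : PicF.IsInvertible N) (hL : PicF.IsInvertible L) {φ : N ⟶ L} (hφ : φ ≠ 0) :
    ∃ U : X.Opens, (U : Set X).Nonempty ∧ IsZero ((Scheme.Modules.pullback U.ι).obj (cokernel φ)) := by
  have hC := QCoh.isCoh_cokernel φ (Euler.isCoh_of_isInvertible hN) (Euler.isCoh_of_isInvertible hL)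
  let U : X.Opens := ⟨(CohB1.support (cokernel φ))ᶜ, (QCoh.isClosed_support_of_isCoh hC).isOpen_compl⟩
  refine ⟨U, ⟨genericPoint X,
    QCoh.notMem_support_cokernel_of_surjective φ (Euler.stalkLin_genericPoint_bijective hN hL hφ).2⟩, ?_⟩
  exact (OX.isZero_restrict_of_support U.ι (M := cokernel φ) fun y => y.2).of_iso
    ((Scheme.Modules.restrictFunctorIsoPullback U.ι).app _).symm

/-- The dichotomy. -/
theorem eq_zero_or_mono {X : Scheme.{u}} [IsIntegral X] [IsLocallyNoetherian X] {N L : X.Modules}
    (hN : PicF.IsInvertible N) (hL : PicF.IsInvertible L) (c : N ⟶ L) :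
    c = 0 ∨ (Mono c ∧ ∃ U : X.Opens, (U : Set X).Nonempty ∧
      IsZero ((Scheme.Modules.pullback U.ι).obj (cokernel c))) := by
  by_cases h : c = 0
  · exact Or.inl h
  · exact Or.inr ⟨Euler.mono_of_ne_zero hN hL h, exists_open_isZero_cokernel hN hL h⟩

theorem eq_zero_or_mono_diff {k : Type u} [Field k] {X Y : Scheme.{u}}
    (pX : X ⟶ Spec (CommRingCat.of k)) (pY : Y ⟶ Spec (CommRingCat.of k)) (φ : X ⟶ Y)
    [IsIntegral X] [Smooth pX] (hdX : topologicalKrullDim X = 1)
    [IsIntegral Y] [Smooth pY] (hdY : topologicalKrullDim Y = 1)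
    (ΩY : Y.Modules) (dY : OmegaSh.Der pY ΩY) (hY : OmegaSh.IsUniversal dY)
    (ΩX : X.Modules) (dX : OmegaSh.Der pX ΩX) (hX : OmegaSh.IsUniversal dX)
    (c : (Scheme.Modules.pullback φ).obj ΩY ⟶ ΩX) :
    c = 0 ∨ (Mono c ∧ ∃ U : X.Opens, (U : Set X).Nonempty ∧
      IsZero ((Scheme.Modules.pullback U.ι).obj (cokernel c))) := by
  haveI : IsLocallyNoetherian X := LocallyOfFiniteType.isLocallyNoetherian pX
  exact eq_zero_or_mono (C1.isInvertible_pullback φ (CurveMult.isInvertible_of_rank_one
    (isFinLocFreeOfRank_omega pY 1 (hdY.trans Nat.cast_one.symm) ΩY dY hY)))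
    (CurveMult.isInvertible_of_rank_one (isFinLocFreeOfRank_omega pX 1 (hdX.trans Nat.cast_one.symm) ΩX dX hX)) c

end GrothLib.DiffDich9
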